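import Groth.Agent.H26.CISpread
import Groth.Agent.Lib.RG.OpenFlat
import Mathlib.RingTheory.LocalProperties.Basic

/-!
# Regular sequences and flat quotients near a prime
-/

set_option autoImplicit false
set_option linter.style.haveILetI false

universe u

open RingTheory.Sequence Groth.Agent.H26.CISpread

namespace Groth.Agent.Lib.KosSpread77.Alg

variable {S : Type u} [CommRing S]

/-- A common denominator for a list. -/
theorem exists_lift (p : Submonoid S) (T : Type u) [CommRing T] [Algebra S T] [IsLocalization p T] :
    ∀ l : List T, ∃ (s : p) (l₀ : List S), l₀.map (algebraMap S T) = l.map (algebraMap S T (s : S) * ·)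
  | [] => ⟨1, [], rfl⟩
  | f :: l => by
    obtain ⟨s, l₀, h⟩ := exists_lift p T l
    obtain ⟨⟨a, s'⟩, ha⟩ := IsLocalization.surj p f
    refine ⟨s * s', (s : S) * a :: l₀.map ((s' : S) * ·), ?_⟩
    simp only [List.map_cons, List.map_map, Submonoid.coe_mul, map_mul, List.cons.injEq]
    refine ⟨by rw [← ha]; ring, ?_⟩
    have e1 : (algebraMap S T ∘ fun x => (s' : S) * x) =
        (fun y => algebraMap S T (s' : S) * y) ∘ algebraMap S T := funext fun x => map_mul _ _ _
    rw [e1, ← List.map_map, h, List.map_map]
    exact List.map_congr_left fun x _ => by simp only [Function.comp_apply]; ring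

theorem ofList_scale {T : Type u} [CommRing T] (v : Tˣ) (l : List T) :
    Ideal.ofList (l.map ((v : T) * ·)) = Ideal.ofList l := by
  refine le_antisymm (Ideal.span_le.2 ?_) (Ideal.span_le.2 fun x hx => ?_)
  · intro x hx
    obtain ⟨y, hy, rfl⟩ := List.mem_map.1 hx
    exact Ideal.mul_mem_left _ _ (Ideal.subset_span hy)
  · have h : (v : T) * x ∈ Ideal.ofList (l.map ((v : T) * ·)) :=
      Ideal.subset_span (List.mem_map.2 ⟨x, hx, rfl⟩)
    exact (Ideal.unit_mul_mem_iff_mem _ v.isUnit).1 h

theorem isWeaklyRegular_scale {T : Type u} [CommRing T] (v : Tˣ) (l : List T) (h : IsWeaklyRegular T l) :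
    IsWeaklyRegular T (l.map ((v : T) * ·)) := by
  refine ⟨fun i hi => ?_⟩
  rw [isSMulRegular_quotient_iff, ← List.map_take, ofList_scale, List.getElem_map]
  intro z hz
  rw [mul_assoc] at hz
  exact (isSMulRegular_quotient_iff _ _).1 (h.regular_mod_prev i (by simpa using hi)) z
    ((Ideal.unit_mul_mem_iff_mem _ v.isUnit).1 hz)

/-- A weakly regular sequence on a basic open, from the local rings. -/
theorem isWeaklyRegular_away (g : S) (fs : List S)
    (h : ∀ (q : Ideal S) [q.IsPrime], g ∉ q →
      IsWeaklyRegular (Localization.AtPrime q) (fs.map (algebraMap S (Localization.AtPrime q)))) :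
    IsWeaklyRegular (Localization.Away g) (fs.map (algebraMap S (Localization.Away g))) := by
  refine ⟨fun i hi => ?_⟩
  rw [isSMulRegular_quotient_iff]
  intro z hz
  refine Ideal.mem_of_localization_maximal fun m hm => ?_
  haveI := hm.isPrime
  let q := m.comap (algebraMap S (Localization.Away g))
  haveI : q.IsPrime := Ideal.IsPrime.comap _
  have hgq : g ∉ q := fun hg => Ideal.IsPrime.ne_top ‹m.IsPrime›
    (Ideal.eq_top_of_isUnit_mem _ hg (IsLocalization.Away.algebraMap_isUnit g))
  haveI : IsLocalization.AtPrime (Localization.AtPrime m) q := by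
    simpa only [IsLocalization.AtPrime, Ideal.under] using
      IsLocalization.isLocalization_isLocalization_atPrime_isLocalization
        (Submonoid.powers g) (Localization.AtPrime m) m
  let e := IsLocalization.algEquiv q.primeCompl (Localization.AtPrime q) (Localization.AtPrime m)
  have hm' : IsWeaklyRegular (Localization.AtPrime m)
      ((fs.map (algebraMap S (Localization.Away g))).map (algebraMap _ (Localization.AtPrime m))) := by
    refine (e.toRingEquiv.toAddEquiv.isWeaklyRegular_congr ?_).1 (h q hgq)
    rw [List.map_map, List.forall₂_map_left_iff, List.forall₂_map_right_iff, List.forall₂_same]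
    intro r _ x
    change e (algebraMap S _ r * x) = algebraMap _ (Localization.AtPrime m) (algebraMap S (Localization.Away g) r) * e x
    rw [map_mul, e.commutes, ← IsScalarTower.algebraMap_apply]
  have h2 := (isSMulRegular_quotient_iff _ _).1
    (hm'.regular_mod_prev i (by simpa using hi)) (algebraMap _ _ z)
  rw [← List.map_take, ← Ideal.map_ofList, List.getElem_map, ← map_mul] at h2
  exact h2 (Ideal.mem_map_of_mem _ hz)

variable {R : Type u} [CommRing R] [Algebra R S]

/-- Flatness of the quotient of a localization. -/
theorem flat_quot_iff (p : Submonoid S) (T : Type u) [CommRing T] [Algebra S T] [IsLocalization p T]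
    [Algebra R T] [IsScalarTower R S T] (I : Ideal S) :
    Module.Flat R (T ⧸ I.map (algebraMap S T)) ↔ Module.Flat R (LocalizedModule p (S ⧸ I)) := by
  have e : LocalizedModule p (S ⧸ I) ≃ₗ[R] (T ⧸ I.map (algebraMap S T)) :=
    ((IsLocalizedModule.iso p (I.toLocalizedQuotient' T p (Algebra.linearMap S T))).trans
      ((Submodule.quotEquivOfEq _ _ (Ideal.localized'_eq_map T p I)).restrictScalars S)).restrictScalars R
  exact ⟨fun _ => Module.Flat.of_linearEquiv e, fun _ => Module.Flat.of_linearEquiv e.symm⟩

end Groth.Agent.Lib.KosSpread77.Alg
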