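import Groth.Agent.Lib.KosSpread77.Spread
import Groth.Agent.Lib.ArtinFun.FlatRegSeq
import Groth.Agent.S2107
import Mathlib.LinearAlgebra.TensorProduct.Quotient

/-!
# Complexes with fibre a resolution
-/

set_option autoImplicit false
set_option linter.style.haveILetI false
set_option maxHeartbeats 800000

universe u

open CategoryTheory CategoryTheory.Limits TensorProduct
open Groth.Agent.Lib.DR
open Groth.Agent.Lib.DR.PseudoCoherent Groth.Agent.Lib.DR.BaseChange
open Groth.Agent.Lib.KosSpread77.Spread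

attribute [local instance] HasDerivedCategory.standard

namespace Groth.Agent.Lib.KosSpread77.Fibre

variable {A : Type u} [CommRing A] (I : Ideal A)

/-- `M ↦ (A/I) ⊗ M` is `M ↦ M/IM`. -/
theorem quot_η (M : ModuleCat.{u} A) (m : M) :
    TensorProduct.quotTensorEquivQuotSMul M I (FlatBC.extEquiv A (A ⧸ I) M (η (B := A ⧸ I) M m)) =
      Submodule.Quotient.mk m := by
  rw [← TensorProduct.quotTensorEquivQuotSMul_mk_one_tmul (M := M) I m]
  exact congrArg _ (rfl : _ = (1 : A ⧸ I) ⊗ₜ[A] m)

theorem η_surjective (M : ModuleCat.{u} A) : Function.Surjective (η (B := A ⧸ I) M) := fun z => by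
  obtain ⟨m, hm⟩ := Submodule.Quotient.mk_surjective _
    (TensorProduct.quotTensorEquivQuotSMul M I (FlatBC.extEquiv A (A ⧸ I) M z))
  exact ⟨m, (FlatBC.extEquiv A (A ⧸ I) M).injective
    ((TensorProduct.quotTensorEquivQuotSMul M I).injective ((quot_η I M m).trans hm))⟩

theorem η_eq_zero_iff (M : ModuleCat.{u} A) (m : M) :
    η (B := A ⧸ I) M m = 0 ↔ m ∈ I • (⊤ : Submodule A M) := by
  rw [← Submodule.Quotient.mk_eq_zero, ← quot_η I M m]
  constructor
  · intro h
    rw [h]
    exact (congrArg _ (map_zero _)).trans (map_zero _)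
  · intro h
    exact (FlatBC.extEquiv A (A ⧸ I) M).injective
      (((TensorProduct.quotTensorEquivQuotSMul M I).injective (h.trans (map_zero _).symm)).trans
        (map_zero _).symm)

/-- Exactness on the fibre, on elements. -/
theorem lift_of_exactAt (E : CochainComplex (ModuleCat.{u} A) ℤ) (i j k : ℤ) (hij : i + 1 = j) (hjk : j + 1 = k)
    (h : ((ext (algebraMap A (A ⧸ I))).obj E).ExactAt j) (x : E.X j)
    (hx : E.d j k x ∈ I • (⊤ : Submodule A (E.X k))) :
    x ∈ LinearMap.range (E.d i j).hom ⊔ I • (⊤ : Submodule A (E.X j)) := by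
  rw [HomologicalComplex.exactAt_iff' _ i j k (by simp; omega) (by simp; omega),
    ShortComplex.moduleCat_exact_iff] at h
  obtain ⟨w, hw⟩ := h (η (B := A ⧸ I) (E.X j) x)
    ((map_η (B := A ⧸ I) (E.d j k) x).trans ((η_eq_zero_iff I (E.X k) _).2 hx))
  obtain ⟨y, rfl⟩ := η_surjective I (E.X i) w
  have h1 : η (B := A ⧸ I) (E.X j) (E.d i j y) = η (B := A ⧸ I) (E.X j) x := (map_η (B := A ⧸ I) (E.d i j) y).symm.trans hw
  refine Submodule.mem_sup.2 ⟨E.d i j y, ⟨y, rfl⟩, x - E.d i j y, (η_eq_zero_iff I (E.X j) _).1 ?_, by abel⟩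
  rw [map_sub, h1, sub_self]

variable {R : Type u} [CommRing R] [IsLocalRing R] [Algebra R A] [IsLocalRing A]
  [IsLocalHom (algebraMap R A)] [Module.Flat R A]

local notation "mA" => Ideal.map (algebraMap R A) (IsLocalRing.maximalIdeal R)

/-- Exactness on the fibre gives exactness and a flat cokernel. -/
theorem exact_step (hefp : CAlgX.IsEssFinitePresentation R A) {M' M N : Type u}
    [AddCommGroup M'] [Module A M'] [Module.Finite A M']
    [AddCommGroup M] [Module A M] [Module.FinitePresentation A M]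
    [AddCommGroup N] [Module A N] [Module R N] [IsScalarTower R A N] [Module.FinitePresentation A N]
    [Module.Flat A N]
    (f : M' →ₗ[A] M) (g : M →ₗ[A] N) (hgf : g ∘ₗ f = 0)
    (h : ∀ x, g x ∈ mA • (⊤ : Submodule A N) → x ∈ LinearMap.range f ⊔ mA • (⊤ : Submodule A M)) :
    Function.Exact f g ∧ Module.Flat R (N ⧸ LinearMap.range g) := by
  haveI : Module.Flat R N := Module.Flat.trans R A N
  letI := Module.compHom (M ⧸ LinearMap.range f) (algebraMap R A)
  haveI : IsScalarTower R A (M ⧸ LinearMap.range f) :=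
    IsScalarTower.of_algebraMap_smul fun _ _ => rfl
  haveI : Module.FinitePresentation A (M ⧸ LinearMap.range f) :=
    Module.finitePresentation_of_surjective _ (LinearMap.range f).mkQ_surjective
      (by rw [Submodule.ker_mkQ]; exact Module.Finite.fg_top.map f |> fun hh => by rwa [Submodule.map_top] at hh)
  let u := (LinearMap.range f).liftQ g (by rintro _ ⟨y, rfl⟩; exact LinearMap.congr_fun hgf y)
  obtain ⟨h1, h2⟩ := Groth.Agent.S2107.result (R := R) (S := A) hefp u fun z hz => by
    obtain ⟨x, rfl⟩ := Submodule.Quotient.mk_surjective _ z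
    obtain ⟨a, ha, b, hb, rfl⟩ := Submodule.mem_sup.1 (h x hz)
    have hb' := Submodule.mem_map_of_mem (f := (LinearMap.range f).mkQ) hb
    rw [Submodule.map_smul''] at hb'
    rw [Submodule.Quotient.mk_add, (Submodule.Quotient.mk_eq_zero _).2 ha, zero_add]
    exact Submodule.smul_mono le_rfl le_top hb'
  refine ⟨fun x => ⟨fun hx => ?_, fun ⟨y, hy⟩ => hy ▸ LinearMap.congr_fun hgf y⟩, ?_⟩
  · exact (Submodule.Quotient.mk_eq_zero _).1 (h1 (show u (Submodule.Quotient.mk x) = u 0 from hx.trans (map_zero u).symm))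
  · haveI := h2
    exact Module.Flat.of_linearEquiv (M := N ⧸ LinearMap.range u)
      ((Submodule.quotEquivOfEq _ _ (Submodule.range_liftQ _ g _)).restrictScalars R).symm

/-- Exactness on the fibre gives exactness and a flat cokernel, for complexes. -/
theorem exact_of_fibre (hefp : CAlgX.IsEssFinitePresentation R A) (E : CochainComplex (ModuleCat.{u} A) ℤ)
    (hE : ∀ i, fproj A (E.X i)) (i j k : ℤ) (hij : i + 1 = j) (hjk : j + 1 = k)
    (h : ((ext (algebraMap A (A ⧸ mA))).obj E).ExactAt j) :
    E.ExactAt j ∧ ∀ [Module R (E.X k)] [IsScalarTower R A (E.X k)],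
      Module.Flat R (E.X k ⧸ LinearMap.range (E.d j k).hom) := by
  haveI := (hE i).1
  haveI := (hE j).1
  haveI := (hE j).2
  haveI := (hE k).1
  haveI := (hE k).2
  haveI := Module.finitePresentation_of_projective A (E.X j)
  haveI := Module.finitePresentation_of_projective A (E.X k)
  have key : ∀ [Module R (E.X k)] [IsScalarTower R A (E.X k)],
      Function.Exact (E.d i j).hom (E.d j k).hom ∧ Module.Flat R (E.X k ⧸ LinearMap.range (E.d j k).hom) :=
    fun {_} {_} => exact_step hefp _ _ (congrArg ModuleCat.Hom.hom (E.d_comp_d i j k))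
      (lift_of_exactAt mA E i j k hij hjk h)
  refine ⟨?_, fun {_} {_} => key.2⟩
  letI := Module.compHom (E.X k) (algebraMap R A)
  haveI : IsScalarTower R A (E.X k) := IsScalarTower.of_algebraMap_smul fun _ _ => rfl
  rw [HomologicalComplex.exactAt_iff' _ i j k (by simp; omega) (by simp; omega), ShortComplex.moduleCat_exact_iff]
  exact fun x hx => (key.1 x).1 hx

end Groth.Agent.Lib.KosSpread77.Fibre
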