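import Groth.Agent.Lib.KosSpread77.Spread
import Groth.Agent.Lib.Koszul.Basic

/-!
# Koszul complexes: terms, base change, scaling by units
-/

set_option autoImplicit false
set_option linter.style.haveILetI false
set_option maxHeartbeats 800000

universe u

open CategoryTheory CategoryTheory.Limits TensorProduct
open Groth.Agent.Lib.DR
open Groth.Agent.Lib.DR.FiniteComplex Groth.Agent.Lib.DR.PseudoCoherent Groth.Agent.Lib.DR.BaseChange
open Groth.Agent.Lib.KosSpread77.Spread

attribute [local instance] HasDerivedCategory.standard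

namespace Groth.Agent.Lib.KosSpread77.Kos

variable {S : Type u} [CommRing S]

/-- Koszul complexes are bounded. -/
theorem isZero_X : ∀ (l : List S) (i : ℤ), i < -(l.length : ℤ) ∨ 0 < i →
    IsZero ((Koszul.koszul S l).X i)
  | [], i, hi => HomologicalComplex.isZero_single_obj_X _ _ _ i (by simp at hi; omega)
  | f :: l, i, hi => by
    refine IsZero.of_iso ?_ (HomologicalComplex.homotopyCofiber.XIsoBiprod (f • 𝟙 (Koszul.koszul S l)) i (i + 1) rfl)
    simp only [List.length_cons, Nat.cast_add, Nat.cast_one] at hi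
    exact (biprod_isZero_iff _ _).2 ⟨isZero_X l _ (by omega), isZero_X l _ (by omega)⟩

/-- Koszul complexes consist of finite projectives. -/
theorem fproj_X : ∀ (l : List S) (i : ℤ), fproj S ((Koszul.koszul S l).X i)
  | [], i => by
    by_cases h : i = 0
    · subst h
      exact good_fproj.iso (HomologicalComplex.singleObjXSelf (ComplexShape.up ℤ) 0 (ModuleCat.of S S)).symm
        ⟨inferInstance, inferInstance⟩
    · exact good_fproj.zero (HomologicalComplex.isZero_single_obj_X _ _ _ i h)
  | f :: l, i =>
    good_fproj.iso (HomologicalComplex.homotopyCofiber.XIsoBiprod (f • 𝟙 (Koszul.koszul S l)) i (i + 1) rfl).symm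
      (good_fproj.biprod (fproj_X l (i + 1)) (fproj_X l i))

variable (B : Type u) [CommRing B] [Algebra S B]

/-- Extension of scalars of the ring is the ring. -/
noncomputable def extSelfIso : (EX B).obj (ModuleCat.of S S) ≅ ModuleCat.of B B :=
  ((FlatBC.extEquiv S B S).trans (TensorProduct.AlgebraTensorModule.rid S B B)).toModuleIso

theorem ext_map_smul (C : CochainComplex (ModuleCat.{u} S) ℤ) (f : S) :
    (ext (algebraMap S B)).map (f • 𝟙 C) = algebraMap S B f • 𝟙 ((ext (algebraMap S B)).obj C) := by
  ext i : 1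
  change (EX B).map (f • 𝟙 (C.X i)) = algebraMap S B f • 𝟙 ((EX B).obj (C.X i))
  rw [map_smul_EX, CategoryTheory.Functor.map_id]

/-- Base change of Koszul complexes. -/
noncomputable def extKoszulIso : ∀ l : List S,
    (ext (algebraMap S B)).obj (Koszul.koszul S l) ≅ Koszul.koszul B (l.map (algebraMap S B))
  | [] => (HomologicalComplex.singleMapHomologicalComplex (EX B) (ComplexShape.up ℤ) 0).app
      (ModuleCat.of S S) ≪≫ (HomologicalComplex.single (ModuleCat.{u} B) (ComplexShape.up ℤ) 0).mapIso
        (extSelfIso B)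
  | f :: l => CochainComplex.mappingCone.mapHomologicalComplexIso (f • 𝟙 (Koszul.koszul S l)) (EX B) ≪≫
      eqToIso (congrArg (fun g => CochainComplex.mappingCone g) (ext_map_smul B (Koszul.koszul S l) f)) ≪≫
        Groth.Agent.Lib.Koszul.Basic.smulConeIso (algebraMap S B f) (extKoszulIso l)

/-- A morphism of smul cones with different scalars. -/
theorem scale_comm {C C' : CochainComplex (ModuleCat.{u} B) ℤ} (v : B) (f : B) (g : C ⟶ C') :
    ((v * f) • 𝟙 C) ≫ g = (v • g) ≫ (f • 𝟙 C') := by
  rw [Linear.smul_comp, Linear.comp_smul, Category.id_comp, Category.comp_id, smul_smul, mul_comm v f]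

theorem scale_comm' {C C' : CochainComplex (ModuleCat.{u} B) ℤ} (v : Bˣ) (f : B) (g : C ⟶ C') :
    (f • 𝟙 C) ≫ g = (((v⁻¹ : Bˣ) : B) • g) ≫ (((v : B) * f) • 𝟙 C') := by
  rw [Linear.smul_comp, Linear.comp_smul, Category.id_comp, Category.comp_id, smul_smul]
  congr 1
  rw [mul_comm (v : B) f, mul_assoc, Units.mul_inv, mul_one]

/-- Scaling a cone by a unit. -/
noncomputable def coneScaleIso (v : Bˣ) (f : B) {C C' : CochainComplex (ModuleCat.{u} B) ℤ} (e : C ≅ C') :
    CochainComplex.mappingCone (((v : B) * f) • 𝟙 C) ≅ CochainComplex.mappingCone (f • 𝟙 C') where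
  hom := CochainComplex.mappingCone.map _ _ ((v : B) • e.hom) e.hom (scale_comm B (v : B) f _)
  inv := CochainComplex.mappingCone.map _ _ (((v⁻¹ : Bˣ) : B) • e.inv) e.inv (scale_comm' B v f _)
  hom_inv_id := by
    rw [← CochainComplex.mappingCone.map_comp]
    simp only [Linear.smul_comp, Linear.comp_smul, smul_smul, Iso.hom_inv_id, Units.mul_inv,
      Units.inv_mul, one_smul]
    exact CochainComplex.mappingCone.map_id _
  inv_hom_id := by
    rw [← CochainComplex.mappingCone.map_comp]
    simp only [Linear.smul_comp, Linear.comp_smul, smul_smul, Iso.inv_hom_id, Units.mul_inv,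
      Units.inv_mul, one_smul]
    exact CochainComplex.mappingCone.map_id _

/-- Scaling by a unit. -/
noncomputable def scaleIso (v : Bˣ) : ∀ l : List B,
    Koszul.koszul B (l.map ((v : B) * ·)) ≅ Koszul.koszul B l
  | [] => Iso.refl _
  | f :: l => coneScaleIso B v f (scaleIso v l)

end Groth.Agent.Lib.KosSpread77.Kos
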