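import Groth.Agent.Lib.KosSpread77.Fibre
import Groth.Agent.Lib.Koszul.Basic
import Groth.Agent.H26.CISpread
import Mathlib.Algebra.Homology.DerivedCategory.FullyFaithful
import Mathlib.CategoryTheory.Limits.Preserves.Shapes.Kernels

/-!
# Regular lifts of a resolution of the fibre
-/

set_option autoImplicit false
set_option linter.style.haveILetI false
set_option maxHeartbeats 800000

universe u

open CategoryTheory CategoryTheory.Limits TensorProduct
open Groth.Agent.Lib.DR
open Groth.Agent.Lib.DR.PseudoCoherent Groth.Agent.Lib.DR.BaseChange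
open Groth.Agent.Lib.KosSpread77.Spread Groth.Agent.Lib.KosSpread77.Fibre

attribute [local instance] HasDerivedCategory.standard

namespace Groth.Agent.Lib.KosSpread77.Lift

variable {A : Type u} [CommRing A]

/-- Homology of isomorphic objects of the derived category. -/
noncomputable def homologyIsoQ {K L : CochainComplex (ModuleCat.{u} A) ℤ}
    (e : DerivedCategory.Q.obj K ≅ DerivedCategory.Q.obj L) (i : ℤ) : K.homology i ≅ L.homology i :=
  (DerivedCategory.homologyFunctorFactors _ i).symm.app K ≪≫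
    (DerivedCategory.homologyFunctor _ i).mapIso e ≪≫ (DerivedCategory.homologyFunctorFactors _ i).app L

/-- Homology in the top degree is a cokernel. -/
noncomputable def topHomologyIso (E : CochainComplex (ModuleCat.{u} A) ℤ) (h : IsZero (E.X 1)) :
    E.homology 0 ≅ cokernel (E.d (-1) 0) :=
  E.isoHomologyι 0 1 (by simp) (h.eq_of_tgt _ _) ≪≫
    IsColimit.coconePointUniqueUpToIso (E.opcyclesIsCokernel (-1) 0 (by simp)) (colimit.isColimit _)

/-- Koszul homology of a regular sequence. -/
theorem isZero_koszul_homology (l : List A) (h : RingTheory.Sequence.IsWeaklyRegular A l) (i : ℤ) (hi : i ≠ 0) :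
    IsZero ((Koszul.koszul A l).homology i) :=
  (Groth.Agent.Lib.Koszul.Basic.isZero_of_weaklyRegular (ModuleCat.of A A) l h i hi).of_iso
    (Groth.Agent.Lib.Koszul.Basic.koszulHomologyIso l i)

/-- Koszul homology in degree zero. -/
theorem nonempty_koszul_homology_zero (l : List A) :
    Nonempty ((Koszul.koszul A l).homology 0 ≃ₗ[A] A ⧸ Ideal.ofList l) := by
  obtain ⟨e⟩ := Groth.Agent.Lib.Koszul.Basic.nonempty_homology_zero (ModuleCat.of A A) l
  exact ⟨(Groth.Agent.Lib.Koszul.Basic.koszulHomologyIso l 0).toLinearEquiv.trans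
    (e.trans (Submodule.quotEquivOfEq _ _ (by rw [smul_eq_mul, Ideal.mul_top])))⟩

/-- Objects concentrated in degree zero are determined by their homology. -/
theorem nonempty_iso_of_homology {X Y : Dual.D A} [X.IsGE 0] [X.IsLE 0] [Y.IsGE 0] [Y.IsLE 0]
    (e : (DerivedCategory.homologyFunctor (ModuleCat.{u} A) 0).obj X ≅
      (DerivedCategory.homologyFunctor (ModuleCat.{u} A) 0).obj Y) : Nonempty (X ≅ Y) := by
  obtain ⟨M, ⟨a⟩⟩ := DerivedCategory.exists_iso_singleFunctor_obj_of_isGE_of_isLE X 0
  obtain ⟨N, ⟨b⟩⟩ := DerivedCategory.exists_iso_singleFunctor_obj_of_isGE_of_isLE Y 0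
  let F := DerivedCategory.homologyFunctor (ModuleCat.{u} A) 0
  let s := DerivedCategory.singleFunctorCompHomologyFunctorIso (ModuleCat.{u} A) 0
  exact ⟨a ≪≫ (DerivedCategory.singleFunctor _ 0).mapIso ((s.app M).symm ≪≫ F.mapIso a.symm ≪≫ e ≪≫
    F.mapIso b ≪≫ s.app N) ≪≫ b.symm⟩

variable (I : Ideal A) {M : Type u} [AddCommGroup M] [Module A M]

/-- A module whose fibre is cyclic, generated compatibly. -/
theorem exists_gen [Module.FinitePresentation A M] (hI : I ≤ Ideal.jacobson ⊥) (fbar : List (A ⧸ I))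
    (g : (A ⧸ I) ⊗[A] M ≃ₗ[A ⧸ I] (A ⧸ I) ⧸ Ideal.ofList fbar) :
    ∃ J : Ideal A, J.FG ∧ Nonempty ((A ⧸ J) ≃ₗ[A] M) ∧
      J.map (Ideal.Quotient.mk I) = Ideal.ofList fbar := by
  let π : M →ₗ[A] (A ⧸ I) ⧸ Ideal.ofList fbar :=
    (g.restrictScalars A).toLinearMap ∘ₗ TensorProduct.mk A (A ⧸ I) M 1
  have hπs : Function.Surjective π := fun z => by
    obtain ⟨m, hm⟩ := Submodule.Quotient.mk_surjective _
      (TensorProduct.quotTensorEquivQuotSMul M I (g.symm z))
    refine ⟨m, ?_⟩
    have h1 : (1 : A ⧸ I) ⊗ₜ[A] m = g.symm z := (TensorProduct.quotTensorEquivQuotSMul M I).injective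
      ((TensorProduct.quotTensorEquivQuotSMul_mk_one_tmul (M := M) I m).trans hm)
    exact (congrArg g h1).trans (g.apply_symm_apply z)
  have hπk : ∀ m, π m = 0 ↔ m ∈ I • (⊤ : Submodule A M) := fun m => by
    rw [← Submodule.Quotient.mk_eq_zero, ← TensorProduct.quotTensorEquivQuotSMul_mk_one_tmul (M := M) I m,
      LinearEquiv.map_eq_zero_iff]
    exact g.map_eq_zero_iff
  obtain ⟨m₀, hm₀⟩ := hπs (Submodule.Quotient.mk 1)
  have hπa : ∀ a : A, π (a • m₀) = Submodule.Quotient.mk (Ideal.Quotient.mk I a) := fun a => by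
    rw [map_smul, hm₀, ← Submodule.Quotient.mk_smul]
    congr 1
    exact (Algebra.algebraMap_eq_smul_one (A := A ⧸ I) a).symm
  let φ := LinearMap.toSpanSingleton A M m₀
  have hφ : Function.Surjective φ := by
    rw [← LinearMap.range_eq_top, eq_top_iff]
    refine Submodule.le_of_le_smul_of_le_jacobson_bot Module.Finite.fg_top hI fun m _ => ?_
    obtain ⟨c, hc⟩ := Submodule.Quotient.mk_surjective _ (π m)
    obtain ⟨a, rfl⟩ := Ideal.Quotient.mk_surjective c
    refine Submodule.mem_sup.2 ⟨a • m₀, ⟨a, rfl⟩, m - a • m₀, (hπk _).1 ?_, by abel⟩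
    rw [map_sub, hπa, ← hc, sub_self]
  have hmem : ∀ a, a ∈ LinearMap.ker φ ↔ a • m₀ = 0 := fun a => LinearMap.mem_ker
  refine ⟨LinearMap.ker φ, Module.FinitePresentation.fg_ker φ hφ, ⟨φ.quotKerEquivOfSurjective hφ⟩,
    le_antisymm (Ideal.map_le_iff_le_comap.2 fun a ha => ?_) fun c hc => ?_⟩
  · have := hπa a
    rw [(hmem a).1 ha, map_zero] at this
    exact (Submodule.Quotient.mk_eq_zero (Ideal.ofList fbar)).1 this.symm
  · obtain ⟨a, rfl⟩ := Ideal.Quotient.mk_surjective c
    have h1 : a • m₀ ∈ I • (⊤ : Submodule A M) :=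
      (hπk _).1 ((hπa a).trans ((Submodule.Quotient.mk_eq_zero _).2 hc))
    rw [← LinearMap.range_eq_top.2 hφ, LinearMap.range_eq_map, ← Submodule.map_smul''] at h1
    obtain ⟨i, hi, hia⟩ := h1
    have hi' : i ∈ I := by
      rw [smul_eq_mul, Ideal.mul_top] at hi
      exact hi
    have h2 : a - i ∈ LinearMap.ker φ := LinearMap.mem_ker.2 (by
      rw [map_sub, hia]
      exact sub_eq_zero.2 rfl)
    have := Ideal.mem_map_of_mem (Ideal.Quotient.mk I) h2
    rwa [map_sub, Ideal.Quotient.eq_zero_iff_mem.2 hi', sub_zero] at this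

variable {R : Type u} [CommRing R] [IsLocalRing R] [Algebra R A] [IsLocalRing A]
  [IsLocalHom (algebraMap R A)] [Module.Flat R A]

local notation "mA" => Ideal.map (algebraMap R A) (IsLocalRing.maximalIdeal R)

theorem mA_le : mA ≤ IsLocalRing.maximalIdeal A :=
  Ideal.map_le_iff_le_comap.2 fun r hr => map_nonunit (algebraMap R A) r hr

/-- Lifts of a regular sequence of the fibre are regular with flat quotients. -/
theorem regular_of_fibre (hefp : CAlgX.IsEssFinitePresentation R A) (fs : List A)
    (h : RingTheory.Sequence.IsWeaklyRegular (A ⧸ mA) (fs.map (Ideal.Quotient.mk mA))) :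
    RingTheory.Sequence.IsWeaklyRegular A fs ∧ Module.Flat R (A ⧸ Ideal.ofList fs) := by
  have step : ∀ i, (hi : i < fs.length) → Module.Flat R (A ⧸ Ideal.ofList (fs.take i)) →
      IsSMulRegular (A ⧸ (Ideal.ofList (fs.take i) • ⊤ : Submodule A A)) fs[i] ∧
        Module.Flat R (A ⧸ Ideal.ofList (fs.take (i + 1))) := by
    intro i hi hfl
    set J := Ideal.ofList (fs.take i) with hJ
    haveI := hfl
    haveI : Module.FinitePresentation A (A ⧸ J) :=
      Module.finitePresentation_of_surjective _ (Submodule.mkQ_surjective J) (by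
        rw [Submodule.ker_mkQ]
        exact Submodule.fg_span (List.finite_toSet _))
    let v : (A ⧸ J) →ₗ[A] (A ⧸ J) := fs[i] • LinearMap.id
    obtain ⟨h1, h2⟩ := Groth.Agent.S2107.result (R := R) (S := A) hefp v fun z hz => by
      obtain ⟨a, rfl⟩ := Ideal.Quotient.mk_surjective z
      have hreg := (Groth.Agent.H26.CISpread.isSMulRegular_quotient_iff _ _).1
        (h.regular_mod_prev i (by simpa using hi)) (Ideal.Quotient.mk mA a)
      rw [← List.map_take, ← Ideal.map_ofList, List.getElem_map, ← map_mul] at hreg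
      have e1 : ∀ b : A, Ideal.Quotient.mk J b ∈ mA • (⊤ : Submodule A (A ⧸ J)) ↔
          Ideal.Quotient.mk mA b ∈ J.map (Ideal.Quotient.mk mA) := fun b => by
        have : (mA • (⊤ : Submodule A (A ⧸ J))) = Submodule.map (Submodule.mkQ J) mA := by
          rw [← Submodule.range_mkQ J, LinearMap.range_eq_map, ← Submodule.map_smul'', smul_eq_mul, Ideal.mul_top]
        rw [this, show Ideal.Quotient.mk J b = Submodule.mkQ J b from rfl, ← Submodule.mem_comap,
          Submodule.comap_map_eq, Submodule.ker_mkQ,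
          ← Ideal.mem_comap (f := Ideal.Quotient.mk mA), Ideal.comap_map_of_surjective _ Ideal.Quotient.mk_surjective,
          ← RingHom.ker_eq_comap_bot, Ideal.mk_ker, sup_comm]
      exact (e1 a).2 (hreg ((e1 _).1 hz))
    refine ⟨?_, ?_⟩
    · rw [Groth.Agent.H26.CISpread.isSMulRegular_quotient_iff]
      intro z hz
      rw [← Ideal.Quotient.eq_zero_iff_mem]
      refine h1 ?_
      rw [map_zero]
      exact Ideal.Quotient.eq_zero_iff_mem.2 hz
    · haveI := h2
      have hsucc : Ideal.ofList (fs.take (i + 1)) = J ⊔ Ideal.span {fs[i]} := by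
        rw [List.take_add_one, List.getElem?_eq_getElem hi, Option.toList_some, Ideal.ofList_append,
          Ideal.ofList_singleton, hJ]
      have hrange : LinearMap.range v = Submodule.map (Submodule.mkQ J) (Ideal.ofList (fs.take (i + 1))) := by
        rw [hsucc, Submodule.map_sup, Submodule.mkQ_map_self, bot_sup_eq, Ideal.span,
          Submodule.map_span, Set.image_singleton]
        ext z
        rw [Submodule.mem_span_singleton]
        constructor
        · rintro ⟨y, rfl⟩
          obtain ⟨b, rfl⟩ := Submodule.mkQ_surjective J y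
          exact ⟨b, congrArg (Ideal.Quotient.mk J) (mul_comm b fs[i])⟩
        · rintro ⟨b, rfl⟩
          exact ⟨Submodule.Quotient.mk b, congrArg (Ideal.Quotient.mk J) (mul_comm fs[i] b)⟩
      exact Module.Flat.of_linearEquiv (M := (A ⧸ J) ⧸ LinearMap.range v)
        (((Submodule.quotEquivOfEq _ _ hrange).trans (Submodule.quotientQuotientEquivQuotient _ _
          (by rw [hsucc]; exact le_sup_left))).restrictScalars R).symm
  have hflat : ∀ i ≤ fs.length, Module.Flat R (A ⧸ Ideal.ofList (fs.take i)) := by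
    intro i
    induction i with
    | zero =>
      intro _
      exact Module.Flat.of_linearEquiv (M := A)
        ((Submodule.quotEquivOfEqBot _ (by rw [List.take_zero, Ideal.ofList_nil])).restrictScalars R)
    | succ i ih => exact fun hi => (step i (by omega) (ih (by omega))).2
  refine ⟨⟨fun i hi => (step i hi (hflat i hi.le)).1⟩, ?_⟩
  have := hflat fs.length le_rfl
  rwa [List.take_length] at this

/-- Lifts generating a flat ideal. -/
theorem eq_ofList (J : Ideal A) (hJ : J.FG) [Module.Flat R (A ⧸ J)] (fs : List A) (hfs : ∀ f ∈ fs, f ∈ J)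
    (h : J.map (Ideal.Quotient.mk mA) = Ideal.ofList (fs.map (Ideal.Quotient.mk mA))) :
    J = Ideal.ofList fs := by
  refine le_antisymm (Submodule.le_of_le_smul_of_le_jacobson_bot hJ
    ((mA_le (R := R)).trans (IsLocalRing.maximalIdeal_le_jacobson ⊥)) fun a ha => ?_) (Ideal.span_le.2 hfs)
  have h1 : Ideal.Quotient.mk mA a ∈ (Ideal.ofList fs).map (Ideal.Quotient.mk mA) := by
    rw [Ideal.map_ofList, ← h]
    exact Ideal.mem_map_of_mem _ ha
  obtain ⟨b, hb, hba⟩ := (Ideal.mem_map_iff_of_surjective _ Ideal.Quotient.mk_surjective).1 h1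
  have hz : a - b ∈ IsLocalRing.maximalIdeal R • (⊤ : Submodule R A) := by
    rw [Ideal.smul_top_eq_map]
    exact Ideal.Quotient.eq.1 hba.symm
  have hz0 : (J.mkQ.restrictScalars R) (a - b) = 0 :=
    (Submodule.Quotient.mk_eq_zero J).2 (sub_mem ha (Ideal.span_le.2 hfs hb))
  have h2 := Groth.Agent.Lib.ArtinFun.FlatReg.mem_smul_ker_of_flat (J.mkQ.restrictScalars R)
    J.mkQ_surjective _ hz hz0
  refine Submodule.mem_sup.2 ⟨b, hb, a - b, ?_, by ring⟩
  refine Submodule.smul_induction_on h2 (fun r hr x hx => ?_) fun x y hx hy => add_mem hx hy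
  rw [← algebraMap_smul A r x]
  exact Submodule.smul_mem_smul (Ideal.mem_map_of_mem (algebraMap R A) hr) ((Submodule.Quotient.mk_eq_zero J).1 hx)

end Groth.Agent.Lib.KosSpread77.Lift
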