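import Groth.Agent.Lib.DR.FlatBC
import Groth.Agent.Lib.DR.Perfect
import Mathlib.Algebra.Homology.DerivedCategory.KProjective
import Mathlib.Algebra.Module.FinitePresentation
import Mathlib.Data.Int.Interval

/-!
# Isomorphisms of perfect complexes spread out from a prime
-/

set_option autoImplicit false
set_option linter.style.haveILetI false
set_option linter.unusedSectionVars false
set_option maxHeartbeats 1000000

universe u

open CategoryTheory CategoryTheory.Limits TensorProduct
open Groth.Agent.Lib.DR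
open Groth.Agent.Lib.DR.FiniteComplex Groth.Agent.Lib.DR.PseudoCoherent Groth.Agent.Lib.DR.BaseChange

attribute [local instance] HasDerivedCategory.standard

namespace Groth.Agent.Lib.KosSpread77.Spread

variable {S : Type u} [CommRing S]

/-- Extension of scalars along an algebra. -/
noncomputable abbrev EX (B : Type u) [CommRing B] [Algebra S B] : ModuleCat.{u} S ⥤ ModuleCat.{u} B :=
  ModuleCat.extendScalars.{u, u, u} (algebraMap S B)

variable {B : Type u} [CommRing B] [Algebra S B]

/-- `m ↦ 1 ⊗ m`. -/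
noncomputable def η (M : ModuleCat.{u} S) :
    M →ₗ[S] (ModuleCat.restrictScalars (algebraMap S B)).obj ((EX B).obj M) :=
  ((ModuleCat.extendRestrictScalarsAdj.{u} (algebraMap S B)).unit.app M).hom

/-- Agreement on `1 ⊗ m` determines a map out of the extension of scalars. -/
lemma ext_hom {M : ModuleCat.{u} S} {N : ModuleCat.{u} B} {α β : (EX B).obj M ⟶ N}
    (h : ∀ m : M, α (η M m) = β (η M m)) : α = β :=
  ModuleCat.ExtendScalars.hom_ext h

lemma map_η {M N : ModuleCat.{u} S} (f : M ⟶ N) (m : M) :
    (EX B).map f (η M m) = η N (f m) := rfl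

/-- `1 ⊗ -` is the localization. -/
theorem isLocalizedModule_η (p : Submonoid S) [IsLocalization p B] (M : ModuleCat.{u} S) :
    IsLocalizedModule p (η (B := B) M) := by
  let e : B ⊗[S] M ≃ₗ[S] (ModuleCat.restrictScalars (algebraMap S B)).obj ((EX B).obj M) :=
    { (FlatBC.extEquiv S B M).symm.toAddEquiv with
      map_smul' := fun r x => by
        change (FlatBC.extEquiv S B M).symm (r • x) = algebraMap S B r • (FlatBC.extEquiv S B M).symm x
        rw [← map_smul]
        exact congrArg _ (algebraMap_smul B r x).symm }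
  have he : (e : B ⊗[S] M →ₗ[S] _) ∘ₗ TensorProduct.mk S B M 1 = η (B := B) M := by
    refine LinearMap.ext fun m => ?_
    refine (FlatBC.extEquiv S B M).injective ?_
    exact (FlatBC.extEquiv S B M).apply_symm_apply _
  rw [← he]
  exact IsLocalizedModule.of_linearEquiv p _ _

/-- Homology of complexes of finite modules over a Noetherian ring is finite. -/
theorem finite_homology [IsNoetherianRing S] (C : CochainComplex (ModuleCat.{u} S) ℤ) (i : ℤ)
    [Module.Finite S (C.X i)] : Module.Finite S (C.homology i) := by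
  haveI : Mono (C.iCycles i) := inferInstance
  haveI : Module.Finite S (C.cycles i) := Module.Finite.of_injective (C.iCycles i).hom
    ((ModuleCat.mono_iff_injective _).1 inferInstance)
  exact Module.Finite.of_surjective (C.homologyπ i).hom ((ModuleCat.epi_iff_surjective _).1 inferInstance)

/-- Extension of scalars along a flat algebra commutes with homology. -/
noncomputable def homologyExtIso [Module.Flat S B] (C : CochainComplex (ModuleCat.{u} S) ℤ) (i : ℤ) :
    ((ext (algebraMap S B)).obj C).homology i ≅ (EX B).obj (C.homology i) :=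
  haveI : PreservesFiniteLimits (EX (S := S) B) := FlatBC.preservesFiniteLimits
  (C.sc i).mapHomologyIso (EX B)

theorem isZero_ext_of_killed [Module.Flat S B] (H : ModuleCat.{u} S) (t : S)
    (hB : IsUnit (algebraMap S B t)) (ht : ∀ h : H, t • h = 0) : IsZero ((EX B).obj H) := by
  rw [IsZero.iff_id_eq_zero]
  refine ext_hom fun m => ?_
  change η H m = 0
  obtain ⟨u, hu⟩ := hB
  have h1 : algebraMap S B t • (η (B := B) H m : (EX B).obj H) = 0 := by
    refine ((η (B := B) H).map_smul t m).symm.trans ?_
    rw [ht, map_zero]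
  rw [← hu] at h1
  exact (smul_eq_zero_iff_eq u).1 h1

lemma map_smul_EX {M N : ModuleCat.{u} S} (c : S) (f : M ⟶ N) :
    (EX B).map (c • f) = algebraMap S B c • (EX B).map f := by
  refine ext_hom fun m => ?_
  refine (map_η (B := B) (c • f) m).trans ?_
  exact ((η (B := B) N).map_smul c (f m))

variable [IsNoetherianRing S] (q : Ideal S) [q.IsPrime]

local notation "Sq" => Localization.AtPrime q

theorem exists_smul_lift {M N : ModuleCat.{u} S} [Module.Finite S M]
    (g : (EX Sq).obj M ⟶ (EX Sq).obj N) :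
    ∃ s : q.primeCompl, ∃ h : M ⟶ N, (EX Sq).map h = algebraMap S Sq (s : S) • g := by
  haveI := Module.finitePresentation_of_finite S M
  haveI := isLocalizedModule_η (B := Sq) q.primeCompl N
  obtain ⟨h, s, hs⟩ := Module.FinitePresentation.exists_lift_of_isLocalizedModule q.primeCompl
    (η (B := Sq) N) ((ModuleCat.restrictScalars (algebraMap S Sq)).map g |>.hom.comp (η (B := Sq) M))
  refine ⟨s, ModuleCat.ofHom h, ext_hom fun m => ?_⟩
  refine (map_η (B := Sq) (ModuleCat.ofHom h) m).trans ?_
  exact LinearMap.congr_fun hs m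

theorem exists_killed {M N : ModuleCat.{u} S} [Module.Finite S M] (D : M ⟶ N)
    (h : (EX Sq).map D = 0) : ∃ s : q.primeCompl, (s : S) • D = 0 := by
  haveI := isLocalizedModule_η (B := Sq) q.primeCompl N
  obtain ⟨s, hs⟩ := Module.Finite.exists_smul_of_comp_eq_of_isLocalizedModule q.primeCompl
    (η (B := Sq) N) D.hom 0 (LinearMap.ext fun m => by
      refine (map_η (B := Sq) D m).symm.trans ?_
      rw [h, LinearMap.comp_zero]
      rfl)
  exact ⟨s, ModuleCat.hom_ext (hs.trans (smul_zero _))⟩

/-- An isomorphism at a prime of bounded complexes of finite projectives holds near the prime. -/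
theorem exists_away (P Q : CochainComplex (ModuleCat.{u} S) ℤ) (a b : ℤ)
    (hP : ∀ i, i < a ∨ b < i → IsZero (P.X i)) (hQ : ∀ i, i < a ∨ b < i → IsZero (Q.X i))
    (hPp : ∀ i, fproj S (P.X i)) (hQp : ∀ i, fproj S (Q.X i))
    (e : DerivedCategory.Q.obj ((ext (algebraMap S Sq)).obj P) ≅
      DerivedCategory.Q.obj ((ext (algebraMap S Sq)).obj Q)) :
    ∃ t : S, t ∉ q ∧ ∀ (W : Type u) [CommRing W] [Algebra S W] [Module.Flat S W],
      IsUnit (algebraMap S W t) → Nonempty (DerivedCategory.Q.obj ((ext (algebraMap S W)).obj P) ≅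
        DerivedCategory.Q.obj ((ext (algebraMap S W)).obj Q)) := by
  classical
  let P' := (ext (algebraMap S Sq)).obj P
  haveI : P'.IsStrictlyLE b := (CochainComplex.isStrictlyLE_iff _ _).2 fun i hi =>
    (EX Sq).map_isZero (hP i (Or.inr hi))
  haveI : ∀ n, Projective (P'.X n) := fun n =>
    projective_of_fproj _ (ext_fproj (algebraMap S Sq) (P.X n) (hPp n))
  haveI := CochainComplex.isKProjective_of_projective P' b
  obtain ⟨ψh, hψh⟩ := (CochainComplex.IsKProjective.Qh_map_bijective P'
    ((HomotopyCategory.quotient _ _).obj ((ext (algebraMap S Sq)).obj Q))).2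
      ((DerivedCategory.quotientCompQhIso _).hom.app P' ≫ e.hom ≫
        (DerivedCategory.quotientCompQhIso _).inv.app ((ext (algebraMap S Sq)).obj Q))
  obtain ⟨ψ, rfl⟩ := (HomotopyCategory.quotient _ _).map_surjective ψh
  haveI : QuasiIso ψ := by
    have h1 : IsIso (DerivedCategory.Qh.map ((HomotopyCategory.quotient (ModuleCat.{u} Sq) (ComplexShape.up ℤ)).map ψ)) := by
      rw [hψh]
      infer_instance
    have h2 : IsIso ((DerivedCategory.Q (C := ModuleCat.{u} Sq)).map ψ) :=
      (NatIso.isIso_map_iff (DerivedCategory.quotientCompQhIso (ModuleCat.{u} Sq)) ψ).1 h1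
    exact (DerivedCategory.isIso_Q_map_iff_quasiIso (C := ModuleCat.{u} Sq) ψ).1 h2
  haveI : ∀ i, Module.Finite S (P.X i) := fun i => (hPp i).1
  obtain ⟨ψf, hψf⟩ : ∃ ψf : ∀ i, (EX Sq).obj (P.X i) ⟶ (EX Sq).obj (Q.X i), ∀ i, ψf i = ψ.f i :=
    ⟨fun i => ψ.f i, fun _ => rfl⟩
  have hcomm : ∀ i, ψf i ≫ (EX Sq).map (Q.d i (i + 1)) = (EX Sq).map (P.d i (i + 1)) ≫ ψf (i + 1) :=
    fun i => by rw [hψf, hψf]; exact ψ.comm i (i + 1)
  choose s h hh using fun i => exists_smul_lift q (ψf i)
  let J := Finset.Icc a b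
  let c : q.primeCompl := ∏ i ∈ J, s i
  have key : ∀ i, ∃ g : P.X i ⟶ Q.X i, (EX Sq).map g = algebraMap S Sq (c : S) • ψf i := by
    intro i
    by_cases hi : i ∈ J
    · refine ⟨((∏ j ∈ J.erase i, s j : q.primeCompl) : S) • h i, ?_⟩
      rw [map_smul_EX, hh]
      refine (smul_smul _ _ _).trans (congrArg (fun x : Sq => x • ψf i) ?_)
      rw [← map_mul, ← Submonoid.coe_mul, Finset.prod_erase_mul J s hi]
    · refine ⟨0, ?_⟩
      have hz : IsZero (P'.X i) := (EX Sq).map_isZero (hP i (by
        simp only [J, Finset.mem_Icc] at hi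
        omega))
      exact hz.eq_of_src _ _
  choose g hg using key
  let D : ∀ i : ℤ, P.X i ⟶ Q.X (i + 1) := fun i => g i ≫ Q.d i (i + 1) - P.d i (i + 1) ≫ g (i + 1)
  have hD : ∀ i, (EX Sq).map (D i) = 0 := fun i => by
    rw [Functor.map_sub, Functor.map_comp, Functor.map_comp, hg, hg, CategoryTheory.Linear.smul_comp,
      CategoryTheory.Linear.comp_smul]
    exact (sub_eq_zero.2 (congrArg (algebraMap S Sq (c : S) • ·) (hcomm i)))
  choose r hr using fun i => exists_killed q (D i) (hD i)
  let c' : q.primeCompl := ∏ i ∈ J, r i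
  have hD' : ∀ i, (c' : S) • D i = 0 := fun i => by
    by_cases hi : i ∈ J
    · rw [show c' = (∏ j ∈ J.erase i, r j) * r i from (Finset.prod_erase_mul J r hi).symm,
        Submonoid.coe_mul, mul_smul, hr, smul_zero]
    · exact (hP i (by
        simp only [J, Finset.mem_Icc] at hi
        omega)).eq_of_src _ _
  let φ : P ⟶ Q :=
    { f := fun i => (c' : S) • g i
      comm' := fun i j hij => by
        obtain rfl : i + 1 = j := hij
        have := hD' i
        simp only [D, smul_sub, sub_eq_zero] at this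
        rw [CategoryTheory.Linear.smul_comp, CategoryTheory.Linear.comp_smul]
        exact this }
  have hu : IsUnit (algebraMap S Sq ((c' : S) * (c : S))) :=
    IsLocalization.map_units Sq (c' * c)
  obtain ⟨u, hu⟩ := hu
  haveI : QuasiIso ((ext (algebraMap S Sq)).map φ) := by
    have e1 : (ext (algebraMap S Sq)).map φ = ψ ≫ ((u : Sq) • 𝟙 _) := by
      ext i : 1
      change (EX Sq).map ((c' : S) • g i) = ψ.f i ≫ ((u : Sq) • 𝟙 _)
      rw [← hψf, map_smul_EX, hg]
      refine (smul_smul _ _ _).trans ?_
      rw [← map_mul, ← hu]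
      refine Eq.trans ?_ (CategoryTheory.Linear.comp_smul _ _ _ _ _ _).symm
      exact congrArg ((u : Sq) • ·) (Category.comp_id _).symm
    haveI : IsIso ((u : Sq) • 𝟙 ((ext (algebraMap S Sq)).obj Q)) :=
      ⟨((u⁻¹ : Sqˣ) : Sq) • 𝟙 _, by simp [smul_smul], by simp [smul_smul]⟩
    rw [e1]
    infer_instance
  let C := CochainComplex.mappingCone φ
  have hCz : ∀ i, i < a - 1 ∨ b < i → IsZero (C.X i) := fun i hi => by
    refine IsZero.of_iso ?_ (HomologicalComplex.homotopyCofiber.XIsoBiprod φ i (i + 1) rfl)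
    exact (biprod_isZero_iff _ _).2 ⟨hP _ (by omega), hQ _ (by omega)⟩
  have hCf : ∀ i, Module.Finite S (C.X i) := fun i => by
    haveI := (good_fproj.iso (HomologicalComplex.homotopyCofiber.XIsoBiprod φ i (i + 1) rfl).symm
      (good_fproj.biprod (hPp (i + 1)) (hQp i))).1
    assumption
  have hq : ∀ i, IsZero ((EX Sq).obj (C.homology i)) := fun i => by
    refine IsZero.of_iso ?_ (homologyExtIso (B := Sq) C i).symm
    refine IsZero.of_iso ?_ ((HomologicalComplex.homologyFunctor _ _ i).mapIso
      (CochainComplex.mappingCone.mapHomologicalComplexIso φ (EX Sq)))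
    exact ((quasiIso_iff_acyclic ((ext (algebraMap S Sq)).map φ)).1 inferInstance i).isZero_homology
  have hk : ∀ i, ∃ t : q.primeCompl, ∀ x : C.homology i, (t : S) • x = 0 := fun i => by
    haveI := hCf i
    haveI := finite_homology C i
    obtain ⟨t, ht⟩ := exists_killed q (𝟙 (C.homology i)) ((hq i).eq_of_src _ _)
    exact ⟨t, fun x => congrArg (fun f : C.homology i ⟶ C.homology i => f x) ht⟩
  choose t ht using hk
  let J' := Finset.Icc (a - 1) b
  refine ⟨((∏ i ∈ J', t i : q.primeCompl) : S), (∏ i ∈ J', t i : q.primeCompl).2, fun W _ _ _ hW => ?_⟩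
  haveI : QuasiIso ((ext (algebraMap S W)).map φ) := by
    rw [quasiIso_iff_acyclic]
    intro i
    rw [HomologicalComplex.exactAt_iff_isZero_homology]
    refine IsZero.of_iso ?_ ((HomologicalComplex.homologyFunctor _ _ i).mapIso
      (CochainComplex.mappingCone.mapHomologicalComplexIso φ (EX W))).symm
    refine IsZero.of_iso ?_ (homologyExtIso (B := W) C i)
    by_cases hi : i ∈ J'
    · refine isZero_ext_of_killed (C.homology i) (t i : S) ?_ (ht i)
      refine isUnit_of_dvd_unit (map_dvd _ ?_) hW
      exact ⟨((∏ j ∈ J'.erase i, t j : q.primeCompl) : S), by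
        rw [← Submonoid.coe_mul, Finset.mul_prod_erase J' t hi]⟩
    · refine (EX W).map_isZero (HomologicalComplex.ExactAt.isZero_homology
        (HomologicalComplex.ExactAt.of_isZero (hCz i (by
          simp only [J', Finset.mem_Icc] at hi
          omega))))
  exact ⟨asIso (DerivedCategory.Q.map ((ext (algebraMap S W)).map φ))⟩

end Groth.Agent.Lib.KosSpread77.Spread
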